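import Groth.Agent.Lib.Mero12.BlowUpTwist
import Groth.Agent.Lib.Mero.DivMod
import Groth.Agent.Lib.Mero.MerMod
import Groth.Agent.Lib.VA.VeryAmple
import Groth.Agent.Lib.Euler.Section
import Groth.Prelude.Def_MeroDiv
import Mathlib.AlgebraicGeometry.Noetherian

/-!
# The ideal of denominators of a regular meromorphic section
-/

set_option autoImplicit false
set_option linter.all false
set_option maxHeartbeats 1000000
set_option backward.isDefEq.respectTransparency false
set_option backward.isDefEq.respectTransparency.types false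
universe u

open CategoryTheory CategoryTheory.Limits AlgebraicGeometry TopologicalSpace Opposite
open GrothLib.InvExt (mres fres mres_smul)

noncomputable section

namespace GrothLib.Mero12

variable {X : Scheme.{u}} {L : X.Modules} (s : Γ(Mero.merMod L, ⊤))

theorem isFiniteType [IsLocallyNoetherian X] (I : X.IdealSheafData) : _root_.BlowUp.IsFiniteTypeIdeal I := fun U => by
  haveI := IsLocallyNoetherian.component_noetherian (X := X) U
  exact IsNoetherian.noetherian _

/-- Outside the zero set of the denominators the section is a section of the module. -/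
theorem compl_support_eq_domain {I : X.IdealSheafData}
    (hI : ∀ V : X.affineOpens, I.ideal V = Mero.denomIdeal L s V.1) :
    ((I.support.compl : X.Opens) : Set X) = Mero.domain L s := by
  ext x
  constructor
  · intro hx
    obtain ⟨U, hU, hxU, -⟩ := exists_isAffineOpen_mem_and_subset (x := x) (U := ⊤) trivial
    have h1 : x ∉ I.support := hx
    rw [Scheme.IdealSheafData.mem_support_iff_of_mem (U := ⟨U, hU⟩) hxU, Scheme.mem_zeroLocus_iff] at h1
    push Not at h1
    obtain ⟨d, hd, hxd⟩ := h1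
    obtain ⟨m, hm⟩ := (hI ⟨U, hU⟩).le hd
    let V := X.basicOpen d
    have hVU : V ≤ U := X.basicOpen_le d
    obtain ⟨v, hv⟩ := (RingedSpace.isUnit_res_basicOpen X.toRingedSpace d)
    refine ⟨V, hxd, (v⁻¹ : Γ(X, V)ˣ).1 • mres L hVU m, fun y => ?_⟩
    rw [Mero.toMerFun_apply, Mero.germ_smul, GrothLib.Mero.germ_mres L hVU y.2 m]
    have h2 := hm ⟨y.1, hVU y.2⟩
    rw [LocalizedModule.mkLinearMap_apply] at h2
    rw [← LocalizedModule.smul'_mk, ← h2, smul_smul,
      show X.presheaf.germ U y.1 (hVU y.2) d = X.presheaf.germ V y.1 y.2 v.1 from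
        (TopCat.Presheaf.germ_res_apply X.presheaf (homOfLE hVU) y.1 y.2 d).symm.trans
          (congrArg _ hv.symm), ← map_mul, Units.inv_mul, map_one, one_smul]
  · rintro ⟨V, hxV, m, hm⟩
    show x ∉ I.support
    obtain ⟨U, hU, hxU, hUV⟩ := exists_isAffineOpen_mem_and_subset (x := x) (U := V) hxV
    rw [Scheme.IdealSheafData.mem_support_iff_of_mem (U := ⟨U, hU⟩) hxU, Scheme.mem_zeroLocus_iff]
    push Not
    refine ⟨1, (hI ⟨U, hU⟩).ge ⟨mres L hUV m, fun y => ?_⟩, ?_⟩
    · rw [map_one, one_smul, LocalizedModule.mkLinearMap_apply, GrothLib.Mero.germ_mres L hUV y.2 m]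
      exact hm ⟨y.1, hUV y.2⟩
    · rw [Scheme.basicOpen_of_isUnit _ isUnit_one]
      exact hxU

theorem mono_toMer (hF : GrothLib.Mero.TF L) : Mono (Mero.toMer L) := by
  refine ⟨fun {Z} g h e => Scheme.Modules.hom_ext _ _ fun U => ConcreteCategory.hom_ext _ _ fun m => ?_⟩
  have e1 : Mero.toMerFun L U (g.app U m) = Mero.toMerFun L U (h.app U m) :=
    ConcreteCategory.congr_hom (congrArg (fun t => Scheme.Modules.Hom.app t U) e) m
  refine TopCat.Presheaf.section_ext ⟨L.presheaf, L.isSheaf⟩ U _ _ fun y hy => ?_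
  have e2 := congrFun (congrArg Subtype.val e1) ⟨y, hy⟩
  rw [Mero.toMerFun_apply, Mero.toMerFun_apply, GrothLib.Mero.mkM_eq_iff hF] at e2
  simpa using e2

/-- Multiplication with `s`, from the ideal of denominators to the module. -/
theorem exists_mul_map (hL : PicF.IsInvertible L) {I : X.IdealSheafData}
    (hI : ∀ V : X.affineOpens, I.ideal V = Mero.denomIdeal L s V.1) :
    ∃ ψ : ClSub.idealMod I ⟶ L, ∀ (U : X.Opens) (k : Γ(ClSub.idealMod I, U)) (y : U),
      LocalizedModule.mk (L.presheaf.germ U y.1 y.2 (ψ.app U k)) 1 =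
        X.presheaf.germ U y.1 y.2 (IdealModSec.val I U k) • s.1 ⟨y.1, Opens.mem_top y.1⟩ := by
  have hF := GrothLib.Mero.tf_of_isInvertible hL
  haveI := mono_toMer (L := L) hF
  let σ : Coh.structureModule X ⟶ Mero.merMod L := FinCov.homOfSection (N := Mero.merMod L) s
  have hσ : ∀ (U : X.Opens) (k : Γ(ClSub.idealMod I, U)), (ClSub.idealModι I ≫ σ).app U k =
      IdealModSec.val I U k • (Mero.merMod L).presheaf.map (homOfLE (le_top : U ≤ ⊤)).op s := fun U k =>
    Euler.homOfSection_app (L := Mero.merMod L) s U _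
  have h0 : (ClSub.idealModι I ≫ σ) ≫ cokernel.π (Mero.toMer L) = 0 := by
    refine VA.hom_ext_affine fun U k => ?_
    obtain ⟨m, hm⟩ := (hI ⟨U.1, U.2⟩).le (IdealModSec.val_mem I ⟨U.1, U.2⟩ k)
    have e1 : (ClSub.idealModι I ≫ σ).app U.1 k = Mero.toMerFun L U.1 m := by
      rw [hσ]
      refine Subtype.ext (funext fun y => ?_)
      rw [Mero.toMerFun_apply, ← LocalizedModule.mkLinearMap_apply]
      exact hm y
    show (cokernel.π (Mero.toMer L)).app U.1 ((ClSub.idealModι I ≫ σ).app U.1 k) = 0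
    rw [e1]
    exact (ConcreteCategory.congr_hom
      (congrArg (fun t => Scheme.Modules.Hom.app t U.1) (cokernel.condition (Mero.toMer L))) m)
  refine ⟨Abelian.monoLift (Mero.toMer L) (ClSub.idealModι I ≫ σ) h0, fun U k y => ?_⟩
  have e2 : (Mero.toMer L).app U ((Abelian.monoLift (Mero.toMer L) (ClSub.idealModι I ≫ σ) h0).app U k) =
      (ClSub.idealModι I ≫ σ).app U k :=
    ConcreteCategory.congr_hom
      (congrArg (fun t => Scheme.Modules.Hom.app t U) (Abelian.monoLift_comp _ _ h0)) k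
  rw [hσ] at e2
  exact congrFun (congrArg Subtype.val e2) y

/-- Near every point some denominator is sent to a regular multiple of a generator. -/
theorem exists_reg_value (hL : PicF.IsInvertible L) (hs : Mero.IsRegularMero L s) {I : X.IdealSheafData}
    (hI : ∀ V : X.affineOpens, I.ideal V = Mero.denomIdeal L s V.1) (ψ : ClSub.idealMod I ⟶ L)
    (hψ : ∀ (U : X.Opens) (k : Γ(ClSub.idealMod I, U)) (y : U),
      LocalizedModule.mk (L.presheaf.germ U y.1 y.2 (ψ.app U k)) 1 =
        X.presheaf.germ U y.1 y.2 (IdealModSec.val I U k) • s.1 ⟨y.1, Opens.mem_top y.1⟩) (x : X) :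
    ∃ U : X.affineOpens, x ∈ U.1 ∧ ∃ (k : Γ(ClSub.idealMod I, U.1)) (e : Γ(L, U.1))
      (c : Γ(X, U.1)), InvExt.IsGen L U.1 e ∧ c ∈ nonZeroDivisors Γ(X, U.1) ∧ ψ.app U.1 k = c • e := by
  have hF := GrothLib.Mero.tf_of_isInvertible hL
  obtain ⟨V, e, hxV, he⟩ := InvExt.exists_gen_nhd hL x
  obtain ⟨T, hxT, i, m, b, hmb⟩ := s.2 ⟨x, Opens.mem_top x⟩
  obtain ⟨U, hU, hxU, hUle⟩ := exists_isAffineOpen_mem_and_subset (x := x) (U := T ⊓ V) ⟨hxT, hxV⟩
  have hUT : U ≤ T := fun z hz => (hUle hz).1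
  have hUV : U ≤ V := fun z hz => (hUle hz).2
  let bU : Mero.regSub X U := ⟨_, Mero.regSub_res (homOfLE hUT) b.2⟩
  let mU := mres L hUT m
  obtain ⟨c, hc⟩ := he.exists_smul_eq hUV mU
  have hval : ∀ y : U, s.1 ⟨y.1, Opens.mem_top y.1⟩ =
      LocalizedModule.mk (L.presheaf.germ U y.1 y.2 mU) (Mero.regGerm y bU) := fun y =>
    (hmb ⟨y.1, hUT y.2⟩).trans (Mero.mk_congr (GrothLib.Mero.germ_mres L hUT y.2 m).symm
      (TopCat.Presheaf.germ_res_apply X.presheaf _ _ _ _).symm)
  have hd : bU.1 ∈ I.ideal ⟨U, hU⟩ := by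
    refine (hI ⟨U, hU⟩).ge ⟨mU, ?_⟩
    intro y
    rw [hval y]
    exact (GrothLib.Mero.smul_eq_iff hF bU.1 mU mU bU).2 rfl y
  obtain ⟨k, hk⟩ := IdealModSec.exists_val_eq I ⟨U, hU⟩ hd
  have hcreg : ∀ y (hy : y ∈ U), X.presheaf.germ U y hy c ∈ nonZeroDivisors (X.presheaf.stalk y) := fun y hy => by
    rw [mem_nonZeroDivisors_iff_left]
    intro r hr
    refine (GrothLib.Mero.mk_eq_zero_iff r 1).mp (hs y _ ?_)
    rw [hval ⟨y, hy⟩]
    refine (LocalizedModule.mk_smul_mk _ _ _ _).trans ?_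
    rw [show L.presheaf.germ U y hy mU = X.presheaf.germ U y hy c • L.presheaf.germ U y hy (mres L hUV e) from by
      rw [← Mero.germ_smul, hc], smul_smul, mul_comm r, hr, zero_smul, LocalizedModule.zero_mk]
  refine ⟨⟨U, hU⟩, hxU, k, mres L hUV e, c, he.restrict hUV,
    GrothLib.BlowUp.mem_nonZeroDivisors_of_germ hcreg, ?_⟩
  rw [← hc]
  refine TopCat.Presheaf.section_ext ⟨L.presheaf, L.isSheaf⟩ U _ _ fun y hy => ?_
  have h1 := hψ U k ⟨y, hy⟩
  rw [hk, hval ⟨y, hy⟩, LocalizedModule.smul'_mk, GrothLib.Mero.mkM_eq_iff hF] at h1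
  exact hF y (Mero.regGerm ⟨y, hy⟩ bU) _ (by rw [smul_sub, sub_eq_zero]; simpa using h1) |> sub_eq_zero.1

end GrothLib.Mero12
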