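import Groth.Agent.Lib.HomZero10.Basic
import Groth.Agent.Lib.OmegaBC.Section
import Groth.Agent.Lib.HodgeIndex.IdealMul
import Groth.Agent.Lib.RegPow10.Main
import Groth.Agent.Lib.BlowUp.Regular
import Groth.Agent.Lib.BlowUp.IdealComap
import Groth.Agent.Lib.BlowUpProper.Basic
import Groth.Agent.Lib.Euler.LocFree
import Groth.Agent.Lib.IdealModSec.Basic
import Groth.Agent.Lib.TensorGen.Basic
import Groth.Agent.Lib.H1Sheaf6.Conormal
import Groth.Agent.Lib.Ample.CocPullback

/-!
# A map from an ideal to an invertible module on the blow-up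
-/

set_option autoImplicit false
set_option linter.all false
set_option maxHeartbeats 1000000
set_option backward.isDefEq.respectTransparency false
set_option backward.isDefEq.respectTransparency.types false
universe u

open CategoryTheory CategoryTheory.Limits AlgebraicGeometry TopologicalSpace Opposite TensorProduct

noncomputable section

namespace GrothLib.Mero12

open GrothLib.QCoh (stalkLin)
open GrothLib.OmegaBC (sval ouni toStalk pullι)
open GrothLib.Goodman (st)

variable {X X' : Scheme.{u}} (b : X' ⟶ X) (x : X')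

/-- The pulled back germ. -/
def pullGerm (M : X.Modules) (n : M.presheaf.stalk (b x)) : ((Scheme.Modules.pullback b).obj M).presheaf.stalk x :=
  letI := (b.stalkMap x).hom.toAlgebra
  (toStalk b M x).hom ((1 : X'.presheaf.stalk x) ⊗ₜ[X.presheaf.stalk (b x)] (n : (OX.stalk (b x)).obj M))

/-- Everything in the pulled back stalk is spanned by pulled back germs. -/
theorem span_pullGerm (M : X.Modules) :
    Submodule.span (X'.presheaf.stalk x) (Set.range (pullGerm b x M)) = ⊤ := by
  letI := (b.stalkMap x).hom.toAlgebra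
  haveI : IsIso (toStalk b M x) := by unfold toStalk; infer_instance
  rw [eq_top_iff]
  intro t ht
  clear ht
  obtain ⟨s, rfl⟩ := ((ConcreteCategory.isIso_iff_bijective (toStalk b M x)).1 inferInstance).2 t
  induction s using TensorProduct.induction_on with
  | zero => exact (map_zero (toStalk b M x).hom).symm ▸ zero_mem _
  | add s t hs ht => exact (map_add (toStalk b M x).hom s t).symm ▸ add_mem hs ht
  | tmul c n =>
    change X'.presheaf.stalk x at c
    let m : (ModuleCat.extendScalars (b.stalkMap x).hom).obj ((OX.stalk (b x)).obj M) :=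
      (1 : X'.presheaf.stalk x) ⊗ₜ[X.presheaf.stalk (b x)] n
    let m' : (ModuleCat.extendScalars (b.stalkMap x).hom).obj ((OX.stalk (b x)).obj M) :=
      c ⊗ₜ[X.presheaf.stalk (b x)] n
    have hb : m' = c • m := by
      show c ⊗ₜ[X.presheaf.stalk (b x)] n = (c • (1 : X'.presheaf.stalk x)) ⊗ₜ[X.presheaf.stalk (b x)] n
      rw [smul_eq_mul, mul_one]
    show (toStalk b M x).hom m' ∈ _
    rw [hb, map_smul]
    exact Submodule.smul_mem _ c (Submodule.subset_span ⟨n, rfl⟩)

theorem pullGerm_smul (M : X.Modules) (a : X.presheaf.stalk (b x)) (n : M.presheaf.stalk (b x)) :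
    pullGerm b x M (a • n) = (b.stalkMap x).hom a • pullGerm b x M n := by
  letI := (b.stalkMap x).hom.toAlgebra
  refine Eq.trans ?_ (map_smul (toStalk b M x).hom ((b.stalkMap x).hom a) _)
  refine congrArg (toStalk b M x).hom ?_
  show (1 : X'.presheaf.stalk x) ⊗ₜ[X.presheaf.stalk (b x)] (a • (n : (OX.stalk (b x)).obj M)) =
    ((b.stalkMap x).hom a • (1 : X'.presheaf.stalk x)) ⊗ₜ[X.presheaf.stalk (b x)] (n : (OX.stalk (b x)).obj M)
  rw [TensorProduct.tmul_smul, TensorProduct.smul_tmul', Algebra.smul_def, smul_eq_mul]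
  rfl

/-- Naturality. -/
theorem stalkLin_pullGerm {M N : X.Modules} (φ : M ⟶ N) (n : M.presheaf.stalk (b x)) :
    stalkLin ((Scheme.Modules.pullback b).map φ) x (pullGerm b x M n) = pullGerm b x N (stalkLin φ (b x) n) := by
  letI := (b.stalkMap x).hom.toAlgebra
  let m : (ModuleCat.extendScalars (b.stalkMap x).hom).obj ((OX.stalk (b x)).obj M) :=
    (1 : X'.presheaf.stalk x) ⊗ₜ[X.presheaf.stalk (b x)] (n : (OX.stalk (b x)).obj M)
  have h : toStalk b M x ≫ (OX.stalk x).map ((Scheme.Modules.pullback b).map φ) =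
      (ModuleCat.extendScalars (b.stalkMap x).hom).map ((OX.stalk (b x)).map φ) ≫ toStalk b N x :=
    ((OX.pullStalkIso b x).inv.naturality φ).symm
  show ((OX.stalk x).map ((Scheme.Modules.pullback b).map φ)).hom ((toStalk b M x).hom m) = _
  rw [← ModuleCat.comp_apply, h, ModuleCat.comp_apply]
  rfl

/-- A generator pulls back to a generator. -/
theorem gen_pullGerm {N : X.Modules} {e : N.presheaf.stalk (b x)} (he : Ref1.Gen N (b x) e) :
    Ref1.Gen ((Scheme.Modules.pullback b).obj N) x (pullGerm b x N e) := by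
  letI := (b.stalkMap x).hom.toAlgebra
  let A := X.presheaf.stalk (b x)
  let B := X'.presheaf.stalk x
  let ψ : A ≃ₗ[A] ((OX.stalk (b x)).obj N) := LinearEquiv.ofBijective (LinearMap.toSpanSingleton A _ e) he
  let e0 : B ≃ₗ[B] B ⊗[A] ((OX.stalk (b x)).obj N) :=
    (TensorProduct.AlgebraTensorModule.rid A B B).symm ≪≫ₗ ψ.baseChange A B
  haveI : IsIso (toStalk b N x) := by unfold toStalk; infer_instance
  have hb := ((ConcreteCategory.isIso_iff_bijective (toStalk b N x)).1 inferInstance).comp e0.bijective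
  show Function.Bijective fun c : B => c • pullGerm b x N e
  suffices hfun : (fun c : B => c • pullGerm b x N e) = _ by rw [hfun]; exact hb
  funext c
  refine ((map_smul (toStalk b N x).hom c _).symm.trans ?_)
  refine congrArg (toStalk b N x).hom ?_
  show (c • (1 : B)) ⊗ₜ[A] (e : (OX.stalk (b x)).obj N) = c ⊗ₜ[A] ((1 : A) • (e : (OX.stalk (b x)).obj N))
  rw [one_smul, smul_eq_mul, mul_one]

theorem bilin_of_span {B P : Type u} [CommRing B] [AddCommGroup P] [Module B P] {S : Set P}
    (hS : Submodule.span B S = ⊤) (F G : P →ₗ[B] B) (h : ∀ s ∈ S, ∀ t ∈ S, F s * G t = F t * G s) (s t : P) :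
    F s * G t = F t * G s := by
  have h1 : ∀ s ∈ S, ∀ t, F s * G t = F t * G s := by
    intro s hs t
    induction (show t ∈ Submodule.span B S by rw [hS]; trivial) using Submodule.span_induction with
    | mem t ht => exact h s hs t ht
    | zero => simp
    | add t u _ _ ht hu => simp [mul_add, add_mul, ht, hu]
    | smul c t _ ht => simp only [map_smul, smul_eq_mul]; linear_combination c * ht
  induction (show s ∈ Submodule.span B S by rw [hS]; trivial) using Submodule.span_induction with
  | mem s hs => exact h1 s hs t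
  | zero => simp
  | add s u _ _ hs hu => simp [mul_add, add_mul, hs, hu]
  | smul c s _ hs => simp only [map_smul, smul_eq_mul]; linear_combination c * hs

omit b x in
/-- Two morphisms with the same kernels on stalks have isomorphic images. -/
theorem nonempty_iso_of_kernels {P A C A' C' : X.Modules} (f : P ⟶ A) (g : P ⟶ C) (a : A' ⟶ A) (c : C' ⟶ C)
    (ha : ∀ y, Function.Injective (stalkLin a y)) (hc : ∀ y, Function.Injective (stalkLin c y))
    (hfa : ∀ y, LinearMap.range (stalkLin f y) = LinearMap.range (stalkLin a y))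
    (hgc : ∀ y, LinearMap.range (stalkLin g y) = LinearMap.range (stalkLin c y))
    (hk : ∀ y t, stalkLin f y t = 0 ↔ stalkLin g y t = 0) : Nonempty (A' ≅ C') := by
  have hlift : ∀ {Q D D' : X.Modules} (h : Q ⟶ D) (d : D' ⟶ D), (∀ y, Function.Injective (stalkLin d y)) →
      (∀ y, LinearMap.range (stalkLin h y) ≤ LinearMap.range (stalkLin d y)) → ∃ l : Q ⟶ D', l ≫ d = h := by
    intro Q D D' h d hd hr
    haveI : Mono d := (OX.mono_iff d).2 fun y => (ModuleCat.mono_iff_injective _).2 (hd y)
    let S : ShortComplex X.Modules := ShortComplex.mk d (cokernel.π d) (cokernel.condition d)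
    have hS : S.Exact := ShortComplex.exact_of_g_is_cokernel _ (cokernelIsCokernel _)
    haveI : Mono S.f := ‹Mono d›
    have hz : h ≫ cokernel.π d = 0 := by
      refine Scheme.Modules.hom_ext _ _ fun U => AddCommGrpCat.ext fun s => ?_
      refine QCoh.section_eq_zero_of_germ (cokernel d) _ fun y hy => ?_
      have e := QCoh.stalkLin_germ (h ≫ cokernel.π d) hy s
      rw [HodgeIndex.stalkLin_comp_apply] at e
      refine e.symm.trans ?_
      obtain ⟨w, hw⟩ := hr y (LinearMap.mem_range_self _ (Q.presheaf.germ U y hy s))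
      rw [← hw, ← HodgeIndex.stalkLin_comp_apply, cokernel.condition, Kodaira.stalkLin_zero_apply]
    exact ⟨hS.lift h hz, hS.lift_f h hz⟩
  obtain ⟨q, hq⟩ := hlift f a ha fun y => (hfa y).le
  obtain ⟨r, hr⟩ := hlift g c hc fun y => (hgc y).le
  have hq' : ∀ y t, stalkLin a y (stalkLin q y t) = stalkLin f y t := fun y t => by
    rw [← HodgeIndex.stalkLin_comp_apply, hq]
  have hr' : ∀ y t, stalkLin c y (stalkLin r y t) = stalkLin g y t := fun y t => by
    rw [← HodgeIndex.stalkLin_comp_apply, hr]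
  have hqs : ∀ y, Function.Surjective (stalkLin q y) := fun y w => by
    obtain ⟨t, ht⟩ := (hfa y).ge (LinearMap.mem_range_self _ w)
    exact ⟨t, ha y ((hq' y t).trans ht)⟩
  haveI : Epi q := (OX.epi_iff q).2 fun y => (ModuleCat.epi_iff_surjective _).2 (hqs y)
  have hk0 : kernel.ι q ≫ r = 0 := by
    rw [OX.eq_zero_iff]
    intro y
    refine ModuleCat.hom_ext (LinearMap.ext fun t => ?_)
    show stalkLin (kernel.ι q ≫ r) y t = 0
    rw [HodgeIndex.stalkLin_comp_apply]
    refine hc y ?_
    rw [map_zero, hr', ← hk y, ← hq', ← HodgeIndex.stalkLin_comp_apply (kernel.ι q) q, kernel.condition,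
      Kodaira.stalkLin_zero_apply, map_zero]
  let l : A' ⟶ C' := Abelian.epiDesc q r hk0
  have hl : q ≫ l = r := Abelian.comp_epiDesc q r hk0
  haveI : IsIso l := (OX.isIso_iff l).2 fun y => (ConcreteCategory.isIso_iff_bijective _).2 ⟨fun u v huv => ?_, fun w => ?_⟩
  · exact ⟨asIso l⟩
  · obtain ⟨s, rfl⟩ := hqs y u
    obtain ⟨t, rfl⟩ := hqs y v
    have huv' : stalkLin l y (stalkLin q y s) = stalkLin l y (stalkLin q y t) := huv
    rw [← HodgeIndex.stalkLin_comp_apply, ← HodgeIndex.stalkLin_comp_apply, hl] at huv'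
    refine ha y ?_
    rw [hq', hq', ← sub_eq_zero, ← map_sub, hk y, map_sub, ← hr', ← hr', huv', sub_self]
  · obtain ⟨t, ht⟩ := (hgc y).ge (LinearMap.mem_range_self _ w)
    refine ⟨stalkLin q y t, hc y ?_⟩
    show stalkLin c y (stalkLin l y (stalkLin q y t)) = _
    rw [← HodgeIndex.stalkLin_comp_apply q l, hl, hr']
    exact ht

/-- A map of an ideal to an invertible module with regular values gives an effective divisor on the blow-up. -/
theorem exists_twist [IsLocallyNoetherian X] {L : X.Modules} (hL : PicF.IsInvertible L) {I : X.IdealSheafData}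
    (hb : _root_.BlowUp.IsBlowUp b I) (ψ : ClSub.idealMod I ⟶ L)
    (hreg : ∀ y : X, ∃ U : X.affineOpens, y ∈ U.1 ∧ ∃ (k : Γ(ClSub.idealMod I, U.1)) (e : Γ(L, U.1))
      (c : Γ(X, U.1)), InvExt.IsGen L U.1 e ∧ c ∈ nonZeroDivisors Γ(X, U.1) ∧ ψ.app U.1 k = c • e) :
    ∃ 𝓓 : X'.IdealSheafData, _root_.BlowUp.IsEffCartierIdeal 𝓓 ∧
      Nonempty (CohB1.tensorMod ((Scheme.Modules.pullback b).obj L) (ClSub.idealMod 𝓓) ≅
        ClSub.idealMod (I.comap b)) := by
  classical
  haveI : IsProper b := GrothLib.BlowUpProper.isProper_of_isBlowUp hb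
  haveI : IsLocallyNoetherian X' := LocallyOfFiniteType.isLocallyNoetherian b
  haveI := InvExt.isQuasicoherent_of_isInvertible hL
  haveI := H1Sheaf6.isQuasicoherent_idealMod I
  let P := (Scheme.Modules.pullback b).obj (ClSub.idealMod I)
  let L' := (Scheme.Modules.pullback b).obj L
  haveI : P.IsQuasicoherent := FittSheaf.isQuasicoherent_pullback b _
  haveI : L'.IsQuasicoherent := FittSheaf.isQuasicoherent_pullback b _
  let f : P ⟶ Coh.structureModule X' := pullι b I
  let g : P ⟶ L' := (Scheme.Modules.pullback b).map ψ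
  let I' := I.comap b
  have hI' := IdealModSec.isInvertible_of_isEffCartier hb.1
  have hL' : PicF.IsInvertible L' := Ample.isInvertible_pullback b hL
  have hfl : FlatMod.IsFinLocFree L' := Euler.isFinLocFree_of_isInvertible hL'
  let 𝓓 := HomZero10.idealSheaf hfl g
  -- the local computation
  have hloc : ∀ x : X', ∃ (δ : X'.presheaf.stalk x) (t : L'.presheaf.stalk x), Ref1.Gen L' x t ∧
      δ ∈ nonZeroDivisors (X'.presheaf.stalk x) ∧ st 𝓓 x = Ideal.span {δ} ∧
      LinearMap.range (stalkLin f x) = LinearMap.range (stalkLin (ClSub.idealModι I') x) ∧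
      LinearMap.range (stalkLin g x) = Submodule.span _ {δ • t} ∧
      ∀ s, stalkLin f x s = 0 ↔ stalkLin g x s = 0 := by
    intro x
    let A := X.presheaf.stalk (b x)
    let B := X'.presheaf.stalk x
    let σ := (b.stalkMap x).hom
    obtain ⟨e, he⟩ := Ref1.exists_gen_of_isInvertible hL (b x)
    let coordA : L.presheaf.stalk (b x) ≃ₗ[A] A := (LinearEquiv.ofBijective (LinearMap.toSpanSingleton A _ e) he).symm
    have hcoordA : ∀ m, coordA m • e = m := fun m =>
      (LinearEquiv.ofBijective (LinearMap.toSpanSingleton A _ e) he).apply_symm_apply m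
    let t := pullGerm b x L e
    have ht : Ref1.Gen L' x t := gen_pullGerm b x he
    let coord : L'.presheaf.stalk x ≃ₗ[B] B := (LinearEquiv.ofBijective (LinearMap.toSpanSingleton B _ t) ht).symm
    have hcoord : ∀ m, coord m • t = m := fun m =>
      (LinearEquiv.ofBijective (LinearMap.toSpanSingleton B _ t) ht).apply_symm_apply m
    have hcoord' : ∀ a : B, coord (a • t) = a := fun a =>
      (LinearEquiv.ofBijective (LinearMap.toSpanSingleton B _ t) ht).symm_apply_apply a
    let F : P.presheaf.stalk x →ₗ[B] B := (ouni x).symm.toLinearMap ∘ₗ stalkLin f x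
    let G : P.presheaf.stalk x →ₗ[B] B := coord.toLinearMap ∘ₗ stalkLin g x
    obtain ⟨v, hv, hvn⟩ := OmegaBC.exists_unit_pullι b I x
    let τ := pullGerm b x (ClSub.idealMod I)
    have hF : ∀ n, F (τ n) = v * σ (sval I (b x) n) := hvn
    let φ : (ClSub.idealMod I).presheaf.stalk (b x) →ₗ[A] A := coordA.toLinearMap ∘ₗ stalkLin ψ (b x)
    have hG : ∀ n, G (τ n) = σ (φ n) := fun n => by
      show coord (stalkLin g x (τ n)) = _
      rw [show stalkLin g x (τ n) = pullGerm b x L (stalkLin ψ (b x) n) from stalkLin_pullGerm b x ψ n,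
        ← hcoordA (stalkLin ψ (b x) n), pullGerm_smul]
      exact hcoord' _
    have hcross : ∀ n m, sval I (b x) n * φ m = sval I (b x) m * φ n := fun n m => by
      have e : sval I (b x) n • (m : (OX.stalk (b x)).obj (ClSub.idealMod I)) =
          sval I (b x) m • (n : (OX.stalk (b x)).obj (ClSub.idealMod I)) :=
        OmegaBC.sval_injective I (b x) (by rw [map_smul, map_smul, smul_eq_mul, smul_eq_mul, mul_comm])
      have e1 : φ (sval I (b x) n • m) = φ (sval I (b x) m • n) := congrArg φ e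
      rw [map_smul, map_smul, smul_eq_mul, smul_eq_mul] at e1
      exact e1
    have hsym : ∀ r s, F r * G s = F s * G r := bilin_of_span (span_pullGerm b x _) F G (by
      rintro _ ⟨n, rfl⟩ _ ⟨m, rfl⟩
      rw [hF, hF, hG, hG, mul_assoc, mul_assoc, ← map_mul, ← map_mul, hcross])
    -- the exceptional generator
    have hrangeF : LinearMap.range F = st I' x := by
      obtain ⟨U, hU, hxU, -⟩ := exists_isAffineOpen_mem_and_subset (x := b x) (U := ⊤) trivial
      obtain ⟨V, hV, hxV, hVU⟩ := exists_isAffineOpen_mem_and_subset (x := x) (U := b ⁻¹ᵁ U) hxU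
      have hst : st I' x = (st I (b x)).map σ := by
        rw [Goodman.st_eq I' ⟨V, hV⟩ hxV, Goodman.st_eq I ⟨U, hU⟩ hxU,
          BlowUp.ideal_comap_eq_map I b ⟨U, hU⟩ ⟨V, hV⟩ hVU, Ideal.map_map, Ideal.map_map]
        congr 1
        refine RingHom.ext fun s => ?_
        show X'.presheaf.germ V x hxV (b.appLE U V hVU s) = (b.stalkMap x) (X.presheaf.germ U (b x) hxU s)
        rw [Scheme.Hom.germ_stalkMap_apply]
        exact TopCat.Presheaf.germ_res_apply X'.presheaf (homOfLE hVU) x hxV _
      rw [hst, LinearMap.range_eq_map, ← span_pullGerm b x, Submodule.map_span]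
      refine le_antisymm (Submodule.span_le.2 ?_) (Ideal.map_le_iff_le_comap.2 ?_)
      · rintro _ ⟨_, ⟨n, rfl⟩, rfl⟩
        rw [SetLike.mem_coe, hF]
        exact Ideal.mul_mem_left _ _ (Ideal.mem_map_of_mem _ ⟨n, rfl⟩)
      · rintro _ ⟨n, rfl⟩
        show σ (sval I (b x) n) ∈ Submodule.span B _
        have h1 : σ (sval I (b x) n) = (hv.unit⁻¹ : Bˣ).1 • F (τ n) := by
          rw [hF, smul_eq_mul, ← mul_assoc, IsUnit.val_inv_mul, one_mul]
        rw [h1]
        exact Submodule.smul_mem _ _ (Submodule.subset_span ⟨_, ⟨n, rfl⟩, rfl⟩)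
    obtain ⟨tI, htI⟩ := Ref1.exists_gen_of_isInvertible hI' x
    let ε : B := sval I' x tI
    have hεr : st I' x = Ideal.span {ε} := by
      refine le_antisymm ?_ ((Ideal.span_singleton_le_iff_mem _).2 ⟨tI, rfl⟩)
      rintro _ ⟨w, rfl⟩
      obtain ⟨a, rfl⟩ := htI.2 w
      exact Ideal.mem_span_singleton'.2 ⟨a, (map_smul (sval I' x) a tI).symm⟩
    have hεn : ∀ a, a * ε = 0 → a = 0 := fun a ha => by
      refine htI.1 (OmegaBC.sval_injective I' x ?_)
      exact (map_smul (sval I' x) a tI).trans (ha.trans (by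
        show (0 : B) = sval I' x ((0 : B) • tI)
        rw [zero_smul]; exact (map_zero _).symm))
    obtain ⟨t₁, ht₁⟩ : ε ∈ LinearMap.range F := hrangeF ▸ hεr ▸ Ideal.mem_span_singleton_self ε
    let δ := G t₁
    have hrel : ∀ s, F s * δ = ε * G s := fun s => by rw [← ht₁, hsym]
    have hδ : ∀ a, a * δ = 0 → a = 0 := by
      intro a ha
      obtain ⟨U, hyU, k, eU, c, heU, hc, hk⟩ := hreg (b x)
      obtain ⟨V₀, hV₀x, hcart⟩ := hb.1 x
      obtain ⟨V, hxV, hVle⟩ := BlowUp.exists_affine_mem_le (X := X') (W := V₀.1 ⊓ b ⁻¹ᵁ U.1) (x := x) ⟨hV₀x, hyU⟩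
      have hcart' : BlowUp.CartierOn I' V₀ := hcart
      have hcV := BlowUp.mem_nonZeroDivisors_appLE_blowUp hb hc (hVle.trans inf_le_right)
        (hcart'.mono (hVle.trans inf_le_left))
      have hcx := BlowUp.germ_mem_nonZeroDivisors hcV hxV
      have hσc : X'.presheaf.germ V.1 x hxV (b.appLE U.1 V.1 (hVle.trans inf_le_right) c) =
          σ (X.presheaf.germ U.1 (b x) hyU c) := by
        show _ = (b.stalkMap x) (X.presheaf.germ U.1 (b x) hyU c)
        rw [Scheme.Hom.germ_stalkMap_apply]
        exact TopCat.Presheaf.germ_res_apply X'.presheaf (homOfLE _) x hxV _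
      rw [hσc] at hcx
      let n := (ClSub.idealMod I).presheaf.germ U.1 (b x) hyU k
      obtain ⟨u, hu⟩ : IsUnit (coordA (L.presheaf.germ U.1 (b x) hyU eU)) := by
        obtain ⟨a', ha'⟩ := (Ref1.gen_of_isGen heU hyU).2 e
        refine IsUnit.of_mul_eq_one a' (he.1 ?_)
        show (coordA (L.presheaf.germ U.1 (b x) hyU eU) * a') • e = (1 : A) • e
        rw [one_smul, mul_comm, mul_smul, hcoordA]
        exact ha'
      have hφn : φ n = X.presheaf.germ U.1 (b x) hyU c * u := by
        show coordA (stalkLin ψ (b x) n) = _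
        rw [QCoh.stalkLin_germ, hk, WeakAss.germ_smul, map_smul, smul_eq_mul, hu]
      have h1 : a * (ε * G (τ n)) = 0 := by rw [← hrel, mul_left_comm, ha, mul_zero]
      rw [mul_left_comm, mul_comm] at h1
      have h2 := hεn _ h1
      rw [hG, hφn, map_mul, ← mul_assoc] at h2
      exact mem_nonZeroDivisors_iff_right.1 hcx a ((((u : Aˣ).isUnit.map σ).mul_left_eq_zero).1 h2)
    have hrangeG : LinearMap.range G = Ideal.span {δ} := by
      refine le_antisymm ?_ ((Ideal.span_singleton_le_iff_mem _).2 ⟨t₁, rfl⟩)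
      rintro _ ⟨s, rfl⟩
      have : F s ∈ Ideal.span {ε} := hεr ▸ hrangeF ▸ LinearMap.mem_range_self F s
      obtain ⟨a, ha⟩ := Ideal.mem_span_singleton'.1 this
      refine Ideal.mem_span_singleton'.2 ⟨a, sub_eq_zero.1 (hεn _ ?_)⟩
      have := hrel s
      rw [← ha] at this
      linear_combination this
    have hkerFG : ∀ s, F s = 0 ↔ G s = 0 := fun s => by
      constructor <;> intro h
      · have := hrel s
        rw [h, zero_mul] at this
        exact hεn _ (by rw [mul_comm]; exact this.symm)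
      · exact hδ _ (by rw [hrel, h, mul_zero])
    refine ⟨δ, t, ht, mem_nonZeroDivisors_iff_right.2 hδ, ?_, ?_, ?_, fun s => ?_⟩
    · obtain ⟨W, hW, hxW, -, nW, eW, heW⟩ := HomZero10.exists_affine_frame hfl x (U := ⊤) trivial
      have h1 : st 𝓓 x = HomZero10.coeffIdeal g x := by
        rw [Goodman.st_eq 𝓓 ⟨W, hW⟩ hxW]
        refine le_antisymm (Ideal.map_le_iff_le_comap.2 fun a ha => HomZero10.mem_sectionIdeal.1 ha x hxW) ?_
        rw [HomZero10.coeffIdeal_eq_map g hW heW x hxW]
        refine Ideal.map_mono fun a ha => HomZero10.mem_sectionIdeal.2 fun z hz => ?_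
        rw [HomZero10.coeffIdeal_eq_map g hW heW z hz]
        exact Ideal.mem_map_of_mem _ ha
      rw [h1, ← hrangeG]
      refine le_antisymm (Ideal.span_le.2 ?_) ?_
      · rintro _ ⟨χ, m, rfl⟩
        show χ (stalkLin g x m) ∈ LinearMap.range G
        rw [← hcoord (stalkLin g x m), map_smul, smul_eq_mul, mul_comm, ← smul_eq_mul]
        exact Submodule.smul_mem _ _ (LinearMap.mem_range_self G m)
      · rintro _ ⟨m, rfl⟩
        exact Ideal.subset_span ⟨coord.toLinearMap, m, rfl⟩
    · rw [HodgeIndex.range_idealModι, ← hrangeF]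
      ext w
      constructor
      · rintro ⟨s, rfl⟩
        exact ⟨F s, LinearMap.mem_range_self F s, ((ouni x).apply_symm_apply _)⟩
      · rintro ⟨_, ⟨s, rfl⟩, rfl⟩
        exact ⟨s, ((ouni x).apply_symm_apply _).symm⟩
    · ext w
      constructor
      · rintro ⟨s, rfl⟩
        obtain ⟨a, ha⟩ := Ideal.mem_span_singleton'.1 (hrangeG.le (LinearMap.mem_range_self G s))
        refine Submodule.mem_span_singleton.2 ⟨a, ?_⟩
        rw [smul_smul, ha]
        exact hcoord _
      · intro hw
        obtain ⟨a, rfl⟩ := Submodule.mem_span_singleton.1 hw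
        exact ⟨a • t₁, by rw [map_smul, ← hcoord (stalkLin g x t₁)]; rfl⟩
    · rw [← (ouni x).symm.map_eq_zero_iff, ← coord.map_eq_zero_iff]
      exact hkerFG s
  choose δ t ht hδ hst hfr hgr hkfg using hloc
  -- invertibility
  have hcoh := RegPow.isCoh_idealMod 𝓓
  have hD : PicF.IsInvertible (ClSub.idealMod 𝓓) := by
    refine InvExt.isInvertible_of_gens fun x => ?_
    obtain ⟨v, hv⟩ : δ x ∈ st 𝓓 x := (hst x).ge (Ideal.mem_span_singleton_self _)
    have hgen : Ref1.Gen (ClSub.idealMod 𝓓) x v := by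
      refine ⟨fun a c h => ?_, fun w => ?_⟩
      · have h' := congrArg (sval 𝓓 x) h
        erw [map_smul, map_smul, smul_eq_mul, smul_eq_mul, hv] at h'
        exact (mul_cancel_right_mem_nonZeroDivisors (hδ x)).1 h'
      · obtain ⟨a, ha⟩ := Ideal.mem_span_singleton'.1 ((hst x).le (LinearMap.mem_range_self (sval 𝓓 x) w))
        refine ⟨a, OmegaBC.sval_injective 𝓓 x ?_⟩
        erw [map_smul, smul_eq_mul, hv]
        exact ha
    let bas : Module.Basis (Fin 1) (X'.presheaf.stalk x) ((ClSub.idealMod 𝓓).presheaf.stalk x) :=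
      (Module.Basis.singleton (Fin 1) (X'.presheaf.stalk x)).map
        (LinearEquiv.ofBijective (LinearMap.toSpanSingleton _ _ v) hgen)
    obtain ⟨D, eD, hxD, heD⟩ := Euler.exists_frame_of_stalk_basis hcoh bas
    exact ⟨D, eD 0, hxD, (InvExt.isGen_iff_isFrame eD).1 heD⟩
  refine ⟨𝓓, IdealModSec.isEffCartier_of_isInvertible hD, ?_⟩
  -- the comparison
  let eu := Euler.tFUnitIso L'
  let a : CohB1.tensorMod L' (ClSub.idealMod 𝓓) ⟶ L' :=
    ((DCoh.tensorBi (X := X')).obj L').map (ClSub.idealModι 𝓓) ≫ eu.hom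
  have main : ∀ x, Function.Injective (stalkLin a x) ∧
      LinearMap.range (stalkLin g x) = LinearMap.range (stalkLin a x) := by
    intro x
    obtain ⟨tD, htD⟩ := Ref1.exists_gen_of_isInvertible hD x
    let c := sval 𝓓 x tD
    let θ : L'.presheaf.stalk x → L'.presheaf.stalk x := fun w =>
      stalkLin eu.hom x (Ref1.tmulStalk L' (Coh.structureModule X') x w (HomSh.unitStalk x 1))
    have hval : ∀ w, stalkLin a x (Ref1.tmulStalk _ _ x w tD) = c • θ w := fun w => by
      refine (HodgeIndex.stalkLin_comp_apply _ eu.hom x _).trans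
        ((congrArg _ (Goodman.stalkLin_tensor_tmul L' (ClSub.idealModι 𝓓) x w tD)).trans ?_)
      rw [Goodman.stalkLin_idealModι 𝓓 x tD, show HomSh.unitStalk x c = c • HomSh.unitStalk x 1 by
          rw [← map_smul, smul_eq_mul, mul_one], map_smul, map_smul]
    have hθ : Function.Bijective θ := by
      refine Function.Bijective.comp ?_ (TensorGen.bijective_tmulStalk _ _ (Ref1.gen_unitStalk x))
      exact (ConcreteCategory.isIso_iff_bijective ((OX.stalk x).map eu.hom)).1 inferInstance
    obtain ⟨u, hu⟩ : ∃ u, δ x = u * c ∧ IsUnit u := by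
      obtain ⟨v, hv⟩ : δ x ∈ st 𝓓 x := (hst x).ge (Ideal.mem_span_singleton_self _)
      obtain ⟨u, rfl⟩ := htD.2 v
      obtain ⟨r, hr⟩ := Ideal.mem_span_singleton'.1 ((hst x).le (LinearMap.mem_range_self (sval 𝓓 x) tD))
      erw [map_smul, smul_eq_mul] at hv
      refine ⟨u, hv.symm, IsUnit.of_mul_eq_one r ?_⟩
      refine (mul_cancel_right_mem_nonZeroDivisors (hδ x)).1 ?_
      rw [one_mul, mul_assoc]
      rw [show r * δ x = c from hr]
      exact hv
    have hb' := (TensorGen.bijective_tmulStalk L' (ClSub.idealMod 𝓓) htD).2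
    refine ⟨fun y z h => ?_, ?_⟩
    · obtain ⟨v, rfl⟩ := hb' y
      obtain ⟨w, rfl⟩ := hb' z
      simp only [hval] at h
      have hvw : θ v = θ w := by
        obtain ⟨p, hp⟩ := (ht x).2 (θ v)
        obtain ⟨q, hq⟩ := (ht x).2 (θ w)
        rw [← hp, ← hq, smul_smul, smul_smul] at h
        rw [← hp, ← hq]
        congr 1
        refine (mul_cancel_left_mem_nonZeroDivisors ?_).1 ((ht x).1 h)
        exact (mul_mem_nonZeroDivisors.1 (hu.1 ▸ hδ x)).2
      rw [hθ.1 hvw]
    · rw [hgr x]
      refine le_antisymm (Submodule.span_le.2 ?_) ?_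
      · rintro _ rfl
        obtain ⟨w, hw⟩ := hθ.2 (u • t x)
        exact ⟨Ref1.tmulStalk _ _ x w tD, by rw [hval, hw, smul_smul, mul_comm, ← hu.1]⟩
      · rintro _ ⟨y, rfl⟩
        obtain ⟨w, rfl⟩ := hb' y
        obtain ⟨p, hp⟩ := (ht x).2 (θ w)
        obtain ⟨u', hu'⟩ := hu.2
        rw [hval, ← hp]
        refine Submodule.mem_span_singleton.2 ⟨p * (u'⁻¹ : (X'.presheaf.stalk x)ˣ).1, ?_⟩
        rw [smul_smul, smul_smul, hu.1, ← hu']
        congr 1
        rw [mul_assoc, ← mul_assoc _ _ c, Units.inv_mul, one_mul, mul_comm]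
  obtain ⟨φ⟩ := nonempty_iso_of_kernels f g (ClSub.idealModι I') a
    (fun x => by
      haveI : Mono (ClSub.idealModι I') := inferInstanceAs (Mono (kernel.ι (ClSub.toSubscheme I')))
      exact QCoh.stalkLin_injective _ x)
    (fun x => (main x).1) hfr (fun x => (main x).2) hkfg
  exact ⟨φ.symm⟩

end GrothLib.Mero12
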